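import Groth.Agent.KvbLam28.Basic
import Groth.Agent.ExtPowEx28.Pull
import Groth.Agent.Omega15.Geometry
import Groth.Agent.Omega15.ConormalSmooth
import Groth.Agent.OmegaLib.LocFree
import Groth.Agent.FlatMor12.GenericSmooth
import Groth.Agent.FEtFF.Hartogs
import Groth.Agent.SGA3Power26.FlatHartogs
import Groth.Agent.CAlgH3.RegularCore
import Groth.Agent.Coherent.CohBC.SectionsPush
import Groth.Agent.SubAvoid14.Integral
import Groth.Agent.S5005
import Groth.Agent.FlatMorAdm.LocFreeApps
import Mathlib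

/-!
# Birational invariance of differential forms: local ingredients
-/

set_option autoImplicit false
set_option linter.style.haveILetI false
set_option backward.isDefEq.respectTransparency.types false
set_option maxHeartbeats 1000000

universe u

open CategoryTheory CategoryTheory.Limits AlgebraicGeometry Opposite TopologicalSpace
open Groth.Agent.Coherent Groth.Agent.PicLib Groth.Agent.AmpleLib Groth.Agent.GrassLib.PBundle

noncomputable section

namespace Groth.Agent.Birat27

variable {X : Scheme.{u}}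

/-- A morphism of modules gives a morphism of exterior powers, bijective where it is. -/
theorem exists_extMap {i : ℕ} {E E' L L' : X.Modules} (h : ExtPow.IsExtPow i E L) (h' : ExtPow.IsExtPow i E' L')
    (u : E ⟶ E') :
    ∃ ψ : L ⟶ L', ∀ U : X.affineOpens, Function.Bijective (u.app U.1) → Function.Bijective (ψ.app U.1) := by
  obtain ⟨φ, hφ⟩ := h
  obtain ⟨φ', hφ'⟩ := h'
  let uU : ∀ U : X.affineOpens, (E.val.obj (op U.1)) →ₗ[Γ(X, U.1)] E'.val.obj (op U.1) := fun U =>
    (u.val.app (op U.1)).hom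
  let F : ∀ U : X.affineOpens, Γ(L, U.1) →ₗ[Γ(X, U.1)] Γ(L', U.1) := fun U =>
    (φ' U).symm.toLinearMap.comp ((exteriorPower.map i (uU U)).comp (φ U).toLinearMap)
  have hFw : ∀ (U : X.affineOpens) (v : Fin i → Γ(E, U.1)),
      F U (wedge φ U v) = wedge φ' U (fun j => u.app U.1 (v j)) := fun U v => by
    show (φ' U).symm (exteriorPower.map i (uU U) (φ U ((φ U).symm _))) = _
    rw [LinearEquiv.apply_symm_apply, exteriorPower.map_apply_ιMulti]
    rfl
  obtain ⟨ψ, hψ⟩ := InjMod14.Kosz.exists_hom_of_affine L L' F fun U V hVU s => by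
    refine ExtFilt28.wedge_induction φ (P := fun s => F V (resM L hVU s) = resM L' hVU (F U s)) ?_ ?_ ?_ ?_ s
    · rw [map_zero, map_zero, map_zero, map_zero]
    · intro a b ha hb; rw [map_add, map_add, map_add, map_add, ha, hb]
    · intro r a ha; rw [resM_smul, map_smul, ha, map_smul, resM_smul]
    · intro v
      rw [wedge_res φ hφ hVU, hFw, hFw, wedge_res φ' hφ' hVU]
      congr 1
      exact funext fun j => app_resM u hVU (v j)
  refine ⟨ψ, fun U hU => ?_⟩
  rw [show ⇑(ψ.app U.1) = ⇑(F U) from funext fun s => hψ U s]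
  let e : (E.val.obj (op U.1)) ≃ₗ[Γ(X, U.1)] E'.val.obj (op U.1) := LinearEquiv.ofBijective (uU U) hU
  have he : Function.Bijective (exteriorPower.map i (uU U)) := by
    refine Function.bijective_iff_has_inverse.2 ⟨exteriorPower.map i e.symm.toLinearMap, fun z => ?_, fun z => ?_⟩
    · rw [← LinearMap.comp_apply, ← exteriorPower.map_comp, show e.symm.toLinearMap ∘ₗ uU U = LinearMap.id from
        LinearMap.ext fun a => e.symm_apply_apply a, exteriorPower.map_id]
      rfl
    · rw [← LinearMap.comp_apply, ← exteriorPower.map_comp, show uU U ∘ₗ e.symm.toLinearMap = LinearMap.id from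
        LinearMap.ext fun a => e.apply_symm_apply a, exteriorPower.map_id]
      rfl
  exact (φ' U).symm.bijective.comp (he.comp (φ U).bijective)

/-- The canonical map of differentials is bijective on stalks where the morphism is a local isomorphism. -/
theorem isIso_stalk_compat {X' S : Scheme.{u}} {p₁ : X ⟶ S} {p₂ : X' ⟶ S} (f : X' ⟶ X) (hsq : f ≫ p₁ = p₂)
    {Ω : X.Modules} {d : OmegaSh.Der p₁ Ω} (hd : OmegaSh.IsUniversal d)
    {Ω' : X'.Modules} {d' : OmegaSh.Der p₂ Ω'} (hd' : OmegaSh.IsUniversal d')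
    {c : (Scheme.Modules.pullback f).obj Ω ⟶ Ω'} (hc : OmegaSh.IsDiffCompat f d d' c)
    (x : X') (hx : Function.Bijective (f.stalkMap x)) :
    IsIso ((DerSch.stalkFunctor X' x).map c) := by
  subst hsq
  obtain ⟨T, hT, hxT, -⟩ := Opens.isBasis_iff_nbhd.mp S.isBasis_affineOpens (Opens.mem_top (p₁ (f x)))
  have hxT' : (f ≫ p₁) x ∈ T := hxT
  letI := (f.stalkMap x).hom.toAlgebra
  letI : Algebra Γ(S, T) (X.presheaf.stalk (f x)) :=
    (S.presheaf.germ T (p₁ (f x)) hxT ≫ p₁.stalkMap (f x)).hom.toAlgebra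
  letI : Algebra Γ(S, T) (X'.presheaf.stalk x) :=
    (S.presheaf.germ T ((f ≫ p₁) x) hxT' ≫ (f ≫ p₁).stalkMap x).hom.toAlgebra
  haveI : IsScalarTower Γ(S, T) (X.presheaf.stalk (f x)) (X'.presheaf.stalk x) := .of_algebraMap_eq fun r => by
    show (f ≫ p₁).stalkMap x _ = f.stalkMap x _
    rw [Scheme.Hom.stalkMap_comp]
    rfl
  haveI : SMulCommClass Γ(S, T) (X.presheaf.stalk (f x)) (X'.presheaf.stalk x) :=
    ⟨fun a b c => by simp only [Algebra.smul_def]; ring⟩
  haveI : Algebra.FormallyEtale (X.presheaf.stalk (f x)) (X'.presheaf.stalk x) :=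
    Algebra.FormallyEtale.of_equiv (AlgEquiv.ofBijective (Algebra.ofId _ _) hx)
  exact Omega15.stalk_bijective hd hd' hc x hT hxT hT hxT' (fun _ => rfl) (fun _ => rfl)
    (Omega15.bijective_of_formallyEtale _ _ _ _)

theorem exists_surjective_functionField (K : CommRingCat.{u}) (hK : IsField K) [IsDomain K] :
    ∃ g : K →+* (Spec K).functionField, Function.Surjective g := by
  letI := hK.toField
  refine ⟨algebraMap K (Spec K).functionField, fun y => ?_⟩
  obtain ⟨⟨a, b⟩, h⟩ := IsLocalization.surj (nonZeroDivisors K) y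
  obtain ⟨c, hc⟩ := hK.mul_inv_cancel (nonZeroDivisors.ne_zero b.2)
  refine ⟨a * c, ?_⟩
  rw [map_mul, ← h, mul_assoc, ← map_mul, hc, map_one, mul_one]

theorem smooth_of_regular {k : Type u} [Field k] [IsAlgClosed k] [AlgebraicGeometry.IsIntegral X] (p : X ⟶ Spec (CommRingCat.of k))
    [LocallyOfFiniteType p] (hreg : ∀ x : X, IsRegularLocalRing (X.presheaf.stalk x)) : Smooth p := by
  haveI : LocallyOfFinitePresentation p := inferInstance
  rw [← Scheme.Hom.smoothLocus_eq_top_iff]
  ext x
  simp only [TopologicalSpace.Opens.coe_top, Set.mem_univ, iff_true, SetLike.mem_coe]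
  haveI := hreg x
  haveI : IsDomain (CommRingCat.of k) := inferInstanceAs (IsDomain k)
  obtain ⟨g, hg⟩ := exists_surjective_functionField (CommRingCat.of k) (Field.toIsField k)
  let e : k ≃+* (Spec (CommRingCat.of k)).functionField := RingEquiv.ofBijective (g : k →+* (Spec (CommRingCat.of k)).functionField) ⟨RingHom.injective (R := k) g, hg⟩
  haveI : IsAlgClosed (Spec (CommRingCat.of k)).functionField := IsAlgClosed.of_ringEquiv k _ e
  have : Subsingleton (Spec (CommRingCat.of k)) := inferInstanceAs (Subsingleton (PrimeSpectrum k))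
  exact FlatMor12.GenericSmooth.mem_smoothLocus_of_regular p x (Subsingleton.elim _ _)

theorem isFinLocFree_omega {S : Scheme.{u}} (p : X ⟶ S) [Smooth p] [QuasiSeparated p] :
    FlatMod.IsFinLocFree (Omega.sheaf p) :=
  OmegaLib.isFinLocFree_of_isFormallySmoothHom (S5005.result p) (Omega15.isFormallySmoothHom_of_smooth p)

theorem isFinLocFree_of_isExtPow {i : ℕ} {E L : X.Modules} (hE : FlatMod.IsFinLocFree E)
    (hL : ExtPow.IsExtPow i E L) : FlatMod.IsFinLocFree L := by
  obtain ⟨L₀, h₂, h₁⟩ := ExtPowEx28.exists_isExtPow hE i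
  obtain ⟨e⟩ := KvbLam28.exists_iso_of_isExtPow h₁ hL
  exact FlatMorAdm.isFinLocFree_of_iso e h₂

/-- Sections of finite locally free modules extend across points of depth at least two. -/
theorem bijective_res_top [IsLocallyNoetherian X] (A : X.Modules) (hA : FlatMod.IsFinLocFree A) (U : X.Opens)
    (hreg : ∀ x : X, IsRegularLocalRing (X.presheaf.stalk x))
    (hdim : ∀ x : X, x ∉ U → (2 : WithBot ℕ∞) ≤ ringKrullDim (X.presheaf.stalk x)) :
    Function.Bijective (resM A (le_top : U ≤ ⊤)) := by
  haveI : Coh.IsQCoh A := CAlgH3.LocFreeFactor.isQCoh_of_finLocFree hA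
  have hdep : ∀ x : X, x ∉ U → (2 : ℕ∞) ≤ _root_.LocCoh.depth (X.presheaf.stalk x) (X.presheaf.stalk x) := by
    intro x hx
    haveI := hreg x
    have h := hdim x hx
    rw [← CAlgH3.depth_eq_ringKrullDim] at h
    exact (WithBot.coe_le_coe (a := (2 : ℕ∞))).1 h
  have hloc : ∀ (V : X.affineOpens), Function.Bijective (resM A (inf_le_left : V.1 ⊓ U ≤ V.1)) := fun V => by
    haveI : IsNoetherianRing Γ(X, V.1) := IsLocallyNoetherian.component_noetherian V
    have hN : NoetherianSpace ↥(V.1 : Set X) := by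
      haveI : IsAffine V.1 := V.2
      haveI : IsNoetherian V.1.toScheme := { toCompactSpace := inferInstance }
      exact (inferInstance : NoetherianSpace V.1.toScheme)
    refine SGA3Power26.bijective_resM_of_flat A V.2 (Coherent.CohBC.flat_sections_of_isFinLocFree A hA V.2)
      inf_le_left ?_ (FEtFF.Hartogs.bijective_restrict U hdep V.2 rfl _)
    have hc : IsCompact ((Subtype.val : ↥(V.1 : Set X) → X) ⁻¹' (U : Set X)) := @NoetherianSpace.isCompact _ _ hN _
    have := hc.image continuous_subtype_val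
    rwa [Subtype.image_preimage_coe] at this
  let F : TopCat.Sheaf Ab X := ⟨A.presheaf, A.isSheaf⟩
  have htop : (⊤ : X.Opens) ≤ ⨆ V : X.affineOpens, V.1 := by rw [iSup_affineOpens_eq_top]
  constructor
  · intro a b hab
    refine TopCat.Sheaf.eq_of_locally_eq' F (fun V : X.affineOpens => V.1) ⊤ (fun V => homOfLE le_top) htop a b
      fun V => (hloc V).1 ?_
    show resM A inf_le_left (resM A le_top a) = resM A inf_le_left (resM A le_top b)
    rw [resM_resM, resM_resM, ← resM_resM A (le_top : U ≤ ⊤) (inf_le_right : V.1 ⊓ U ≤ U) a, hab, resM_resM]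
  · intro s
    choose t ht using fun V : X.affineOpens => (hloc V).2 (resM A inf_le_right s)
    have hinjV : ∀ (V : X.affineOpens) (W : X.Opens) (hW : W ≤ V.1) (a b : Γ(A, W)),
        (∀ (V' : X.affineOpens) (h : V'.1 ≤ W), resM A h a = resM A h b) → a = b := fun V W hW a b h => by
      choose B hB hyB hBW using fun y : W =>
        (Opens.isBasis_iff_nbhd.1 X.isBasis_affineOpens y.2)
      exact TopCat.Sheaf.eq_of_locally_eq' F B W (fun y => homOfLE (hBW y))
        (fun y hy => Opens.mem_iSup.2 ⟨⟨y, hy⟩, hyB ⟨y, hy⟩⟩) a b fun y => h ⟨B y, hB y⟩ (hBW y)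
    obtain ⟨w, hw, -⟩ := TopCat.Sheaf.existsUnique_gluing' F (fun V : X.affineOpens => V.1) ⊤
      (fun V => homOfLE le_top) htop t fun V V' => by
        refine hinjV V _ inf_le_left _ _ fun W hW => (hloc W).1 ?_
        show resM A inf_le_left (resM A hW (resM A inf_le_left (t V))) =
          resM A inf_le_left (resM A hW (resM A inf_le_right (t V')))
        simp only [resM_resM]
        have h1 : W.1 ⊓ U ≤ V.1 ⊓ U := inf_le_inf_right U (hW.trans inf_le_left)
        have h2 : W.1 ⊓ U ≤ V'.1 ⊓ U := inf_le_inf_right U (hW.trans inf_le_right)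
        rw [← resM_resM A inf_le_left h1 (t V), ht V, ← resM_resM A inf_le_left h2 (t V'), ht V', resM_resM,
          resM_resM]
    refine ⟨w, ?_⟩
    refine TopCat.Sheaf.eq_of_locally_eq' F (fun V : X.affineOpens => V.1 ⊓ U) U (fun V => homOfLE inf_le_right)
      (fun y hy => by
        obtain ⟨V, hV, hyV, -⟩ := Opens.isBasis_iff_nbhd.1 X.isBasis_affineOpens (Opens.mem_top y)
        exact Opens.mem_iSup.2 ⟨⟨V, hV⟩, hyV, hy⟩) _ _ fun V => ?_
    show resM A inf_le_right (resM A le_top w) = resM A inf_le_right s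
    rw [← ht V, ← (hw V : resM A le_top w = t V), resM_resM, resM_resM]

end Groth.Agent.Birat27
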