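import Groth.Agent.Birat27.Basic
import Groth.Agent.NeronLib.CodimOne
import Groth.Agent.CurveRR24.RR
import Groth.Agent.CurveRR24.Sky
import Groth.Agent.Clifford24.SmoothFamily
import Groth.Agent.DCat.PullTensor
import Groth.Agent.FreeRetract.Basic
import Mathlib

/-!
# Birational invariance of global differential forms
-/

set_option autoImplicit false
set_option linter.style.haveILetI false
set_option backward.isDefEq.respectTransparency.types false
set_option maxHeartbeats 1000000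

universe u

open CategoryTheory CategoryTheory.Limits AlgebraicGeometry Opposite TopologicalSpace
open Groth.Agent.Coherent Groth.Agent.PicLib Groth.Agent.AmpleLib Groth.Agent.GrassLib.PBundle

noncomputable section

namespace Groth.Agent.Birat27

variable {X : Scheme.{u}}

theorem app_eq_zero_image {Y : Scheme.{u}} (g : Y ⟶ X) [IsOpenImmersion g] {M N : X.Modules} (σ : M ⟶ N)
    (h : (Scheme.Modules.pullback g).map σ = 0) (W : Y.Opens) (s : Γ(M, g ''ᵁ W)) : σ.app (g ''ᵁ W) s = 0 := by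
  have h1 : (Scheme.Modules.restrictFunctor g).map σ = 0 := by
    have hn := (Scheme.Modules.restrictFunctorIsoPullback g).hom.naturality σ
    rw [h, comp_zero] at hn
    exact (cancel_mono ((Scheme.Modules.restrictFunctorIsoPullback g).hom.app N)).1 (hn.trans zero_comp.symm)
  exact congrArg (fun t : (Scheme.Modules.restrictFunctor g).obj M ⟶ (Scheme.Modules.restrictFunctor g).obj N =>
    t.app W s) h1

theorem injective_res_integral [AlgebraicGeometry.IsIntegral X] (A : X.Modules) (hA : FlatMod.IsFinLocFree A)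
    (U : X.Opens) (hU : (U : Set X).Nonempty) (s : Γ(A, ⊤)) (hs : resM A (le_top : U ≤ ⊤) s = 0) : s = 0 := by
  haveI : Coh.IsQCoh A := CAlgH3.LocFreeFactor.isQCoh_of_finLocFree hA
  refine TopCat.Sheaf.eq_of_locally_eq' (⟨A.presheaf, A.isSheaf⟩ : TopCat.Sheaf Ab X)
    (fun V : X.affineOpens => V.1) ⊤ (fun V => homOfLE le_top) (by rw [iSup_affineOpens_eq_top]) _ _ fun V => ?_
  show resM A le_top s = resM A le_top 0
  rw [map_zero]
  by_cases hV : ((V.1 : X.Opens) : Set X).Nonempty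
  swap
  · have h0 : V.1 = ⊥ := Opens.ext (Set.not_nonempty_iff_eq_empty.1 hV)
    refine TopCat.Sheaf.eq_of_locally_eq' (⟨A.presheaf, A.isSheaf⟩ : TopCat.Sheaf Ab X)
      (fun e : PEmpty.{u + 1} => e.elim) V.1 (fun e => e.elim) (by rw [h0]; exact bot_le) _ _ fun e => e.elim
  obtain ⟨x, hxU, hxV⟩ : ((U : Set X) ∩ (V.1 : Set X)).Nonempty :=
    nonempty_preirreducible_inter U.2 V.1.2 hU hV
  obtain ⟨g, hg, hxg⟩ := V.2.exists_basicOpen_le ⟨x, hxU⟩ hxV
  haveI : Nonempty (V.1 : X.Opens) := ⟨⟨x, hxV⟩⟩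
  have hg0 : g ≠ 0 := fun h => by
    rw [h, Scheme.basicOpen_zero] at hxg
    exact hxg
  have hres : resM A (X.basicOpen_le g) (resM A le_top s) = 0 := by
    rw [resM_resM, ← resM_resM A (le_top : U ≤ ⊤) hg, hs, map_zero]
  obtain ⟨n, hn⟩ : ∃ n : ℕ, g ^ n • (resM A (le_top : V.1 ≤ ⊤) s : Γ(A, V.1)) = 0 := by
    letI := (X.presheaf.map (homOfLE (X.basicOpen_le g)).op).hom.toAlgebra
    letI := Module.compHom Γ(A, X.basicOpen g) (X.presheaf.map (homOfLE (X.basicOpen_le g)).op).hom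
    let ρ : Γ(A, V.1) →ₗ[Γ(X, V.1)] Γ(A, X.basicOpen g) :=
      { toFun := resM A (X.basicOpen_le g)
        map_add' := fun a b => map_add _ a b
        map_smul' := fun r a => resM_smul A _ r a }
    haveI := EGA43.QcohFP.isLocalizedModule_res A V.2 g ρ fun _ => rfl
    obtain ⟨⟨_, n, rfl⟩, hn⟩ := (IsLocalizedModule.eq_zero_iff (Submonoid.powers g) ρ).1 hres
    exact ⟨n, hn⟩
  haveI := Coherent.CohBC.flat_sections_of_isFinLocFree A hA V.2
  have hreg : IsSMulRegular Γ(A, V.1) (g ^ n) :=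
    Module.Flat.isSMulRegular_of_nonZeroDivisors (mem_nonZeroDivisors_of_ne_zero (pow_ne_zero n hg0))
  exact hreg (hn.trans (smul_zero (g ^ n)).symm)

theorem finrank_le (k : Type u) [Field k]
    (X X' : Scheme.{u}) [X.Over (Spec (CommRingCat.of k))] [X'.Over (Spec (CommRingCat.of k))]
    [IsProper (X ↘ Spec (CommRingCat.of k))] [IsLocallyNoetherian X] [AlgebraicGeometry.IsIntegral X']
    (hreg : ∀ x : X, IsRegularLocalRing (X.presheaf.stalk x))
    (V : X.Opens) (hV : ∀ x : X, x ∉ V → (2 : WithBot ℕ∞) ≤ ringKrullDim (X.presheaf.stalk x))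
    (f : V.toScheme ⟶ X') (hf : f ≫ (X' ↘ Spec (CommRingCat.of k)) = V.ι ≫ (X ↘ Spec (CommRingCat.of k)))
    {W : Scheme.{u}} (j : W ⟶ V.toScheme) [IsOpenImmersion (j ≫ f)] [Nonempty W]
    (A : X.Modules) (hA : FlatMod.IsFinLocFree A) (A' : X'.Modules) (hA' : FlatMod.IsFinLocFree A')
    (ψ : (Scheme.Modules.pullback f).obj A' ⟶ (Scheme.Modules.pullback V.ι).obj A)
    [IsIso ((Scheme.Modules.pullback j).map ψ)] :
    Module.finrank k (Coh.HH X' A' 0) ≤ Module.finrank k (Coh.HH X A 0) := by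
  let E := CurveRR24.hhZero k A
  let E' := CurveRR24.hhZero k A'
  let r : A ⟶ (Scheme.Modules.pushforward V.ι).obj ((Scheme.Modules.pullback V.ι).obj A) :=
    (Scheme.Modules.pullbackPushforwardAdjunction V.ι).unit.app A
  have hr : Function.Bijective (r.app ⊤) := by
    have hb := bijective_res_top A hA V hreg hV
    have hfac : ∀ s : Γ(A, ⊤), r.app ⊤ s =
        ((Scheme.Modules.restrictFunctorIsoPullback V.ι).hom.app A).app ⊤
          (A.presheaf.map (homOfLE (le_top : V.ι ''ᵁ ⊤ ≤ ⊤)).op s) := by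
      intro s
      have h := congrArg (fun t => t.app ⊤ s)
        (Adjunction.unit_leftAdjointUniq_hom_app (Scheme.Modules.restrictAdjunction V.ι)
          (Scheme.Modules.pullbackPushforwardAdjunction V.ι) A)
      exact h.symm
    have h1 : Function.Bijective (fun s : Γ(A, ⊤) => A.presheaf.map (homOfLE (le_top : V.ι ''ᵁ ⊤ ≤ ⊤)).op s) := by
      have hle : V.ι ''ᵁ ⊤ = V := Scheme.Opens.ι_image_top V
      revert hb
      generalize V.ι ''ᵁ ⊤ = O at hle
      subst hle
      exact id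
    rw [show ⇑(r.app ⊤) = _ from funext hfac]
    exact (ConcreteCategory.bijective_of_isIso
      (((Scheme.Modules.restrictFunctorIsoPullback V.ι).hom.app A).app ⊤)).comp h1
  let q := (Scheme.Modules.pullbackPushforwardAdjunction f).homEquiv _ _ ψ
  have hq : Function.Injective (q.app ⊤) := by
    rw [injective_iff_map_eq_zero]
    intro s hs
    let σ := unitDesc A' s
    have h0 : σ ≫ q = 0 := FreeRetract.unit_hom_ext (by
      show q.app ⊤ (σ.app ⊤ (1 : Γ(X', ⊤))) = _
      rw [show σ.app ⊤ (1 : Γ(X', ⊤)) = resM A' le_rfl s from unitVal_unitDesc A' s ⊤]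
      simp only [resM_refl]
      exact hs)
    have h1 : (Scheme.Modules.pullback f).map σ ≫ ψ = 0 := by
      apply ((Scheme.Modules.pullbackPushforwardAdjunction f).homEquiv _ _).injective
      rw [Adjunction.homEquiv_naturality_left, h0, Adjunction.homEquiv_unit]
      simp
    have h2 : (Scheme.Modules.pullback j).map ((Scheme.Modules.pullback f).map σ) = 0 := by
      rw [← cancel_mono ((Scheme.Modules.pullback j).map ψ), ← Functor.map_comp, h1, Functor.map_zero, zero_comp]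
    have h3 : (Scheme.Modules.pullback (j ≫ f)).map σ = 0 := by
      have hn := (Scheme.Modules.pullbackComp j f).hom.naturality σ
      rw [Functor.comp_map, h2, zero_comp] at hn
      exact (cancel_epi ((Scheme.Modules.pullbackComp j f).hom.app _)).1 (hn.symm.trans comp_zero.symm)
    refine injective_res_integral A' hA' ((j ≫ f) ''ᵁ ⊤)
      ⟨(j ≫ f) (Classical.arbitrary W), ⟨Classical.arbitrary W, trivial, rfl⟩⟩ s ?_
    rw [← unitVal_unitDesc]
    exact app_eq_zero_image (j ≫ f) σ h3 ⊤ _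
  let e : Γ(A, ⊤) ≃+ Γ((Scheme.Modules.pullback V.ι).obj A, ⊤) :=
    AddEquiv.ofBijective ((r.app ⊤).hom : Γ(A, ⊤) →+ Γ((Scheme.Modules.pullback V.ι).obj A, ⊤)) hr
  let T : GA (baseHom k X') A' →ₗ[k] GA (baseHom k X) A :=
    { toFun := fun s => e.symm (q.app ⊤ s)
      map_add' := fun a b => (congrArg e.symm (map_add (q.app ⊤).hom a b)).trans (map_add e.symm _ _)
      map_smul' := fun c s => by
        refine e.injective ?_
        rw [e.apply_symm_apply, RingHom.id_apply]
        refine (Scheme.Modules.Hom.app_smul q (U := ⊤) (baseHom k X' c) (show Γ(A', ⊤) from s)).trans ?_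
        refine Eq.trans ?_ (Scheme.Modules.Hom.app_smul r (U := ⊤) (baseHom k X c)
          (show Γ(A, ⊤) from e.symm (q.app ⊤ s))).symm
        have h1 : f.app ⊤ (baseHom k X' c) = V.ι.app ⊤ (baseHom k X c) := by
          have h := congrArg (fun t => t.appTop) hf
          simp only [Scheme.Hom.comp_appTop] at h
          exact congr($h ((Scheme.ΓSpecIso (CommRingCat.of k)).inv c))
        change (show Γ(V.toScheme, ⊤) from f.app ⊤ (baseHom k X' c)) •
            (show Γ((Scheme.Modules.pullback V.ι).obj A, ⊤) from q.app ⊤ s) =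
          (show Γ(V.toScheme, ⊤) from V.ι.app ⊤ (baseHom k X c)) • e (e.symm (q.app ⊤ s))
        rw [e.apply_symm_apply]
        exact congrArg (fun t : Γ(V.toScheme, ⊤) => t • (show Γ((Scheme.Modules.pullback V.ι).obj A, ⊤) from q.app ⊤ s)) h1 }
  haveI : Module.Finite k (Coh.HH X A 0) :=
    CurveRR24.finite_HH_of_isCoh k (Coherent.CohBC.isCoh_of_isFinLocFree hA) 0
  refine LinearMap.finrank_le_finrank_of_injective
    (f := E.symm.toLinearMap ∘ₗ T ∘ₗ E'.toLinearMap) ?_
  exact E.symm.injective.comp ((e.symm.injective.comp hq).comp E'.injective)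

theorem exists_omegaMap {k : Type u} [Field k] (X X' : Scheme.{u}) (p : X ⟶ Spec (CommRingCat.of k))
    (p' : X' ⟶ Spec (CommRingCat.of k)) [IsSeparated p] [IsSeparated p']
    (V : X.Opens) (f : V.toScheme ⟶ X') (hf : f ≫ p' = V.ι ≫ p)
    {W : Scheme.{u}} (j : W ⟶ V.toScheme) [IsOpenImmersion j] [IsOpenImmersion (j ≫ f)] :
    ∃ u : (Scheme.Modules.pullback f).obj (Omega.sheaf p') ⟶ (Scheme.Modules.pullback V.ι).obj (Omega.sheaf p),
      ∀ O : V.toScheme.Opens, O ≤ j.opensRange → Function.Bijective (u.app O) := by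
  have hd := S5005.result p
  have hd' := S5005.result p'
  have hdV := S5005.result (V.ι ≫ p)
  obtain ⟨c₁, hc₁, -⟩ := Omega15.existsUnique_compat (f := p') (f' := V.ι ≫ p) f (𝟙 _)
    ((Category.comp_id _).trans hf.symm) hd' (OmegaSh.dOmega (V.ι ≫ p))
  obtain ⟨c₂, hc₂, -⟩ := Omega15.existsUnique_compat (f := p) (f' := V.ι ≫ p) V.ι (𝟙 _)
    (Category.comp_id _) hd (OmegaSh.dOmega (V.ι ≫ p))
  haveI : IsIso c₂ := ModStalk.isIso_of_stalks c₂ fun x =>
    isIso_stalk_compat V.ι rfl hd hdV hc₂ x (ConcreteCategory.bijective_of_isIso _)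
  refine ⟨c₁ ≫ inv c₂, fun O hO => ?_⟩
  refine (ConcreteCategory.bijective_of_isIso ((inv c₂).app O)).comp ?_
  refine SubAvoid14.bijective_app_of_stalks c₁ O fun z hz => ?_
  obtain ⟨w, hw⟩ := hO hz
  haveI := isIso_stalk_compat f hf hd' hdV hc₁ z (by
    subst hw
    have h := ConcreteCategory.bijective_of_isIso ((j ≫ f).stalkMap w)
    rw [Scheme.Hom.stalkMap_comp] at h
    exact (Function.Bijective.of_comp_iff' (ConcreteCategory.bijective_of_isIso (j.stalkMap w)) _).1 h)
  exact ConcreteCategory.bijective_of_isIso _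

theorem exists_wedgeMap (i : ℕ) {V W : Scheme.{u}} (j : W ⟶ V) [IsOpenImmersion j] {E E' L L' : V.Modules}
    (hL : ExtPow.IsExtPow i E L) (hL' : ExtPow.IsExtPow i E' L') (u : E ⟶ E')
    (hu : ∀ O : V.Opens, O ≤ j.opensRange → Function.Bijective (u.app O)) :
    ∃ ψ : L ⟶ L', IsIso ((Scheme.Modules.pullback j).map ψ) := by
  obtain ⟨ψ, hψ⟩ := exists_extMap hL hL' u
  refine ⟨ψ, (NatIso.isIso_map_iff (Scheme.Modules.restrictFunctorIsoPullback j) ψ).1 ?_⟩
  refine InjMod14.Kosz.isIso_of_affine_nbhds _ fun O x hx => ?_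
  obtain ⟨B, hB, hxB, hle⟩ := Opens.isBasis_iff_nbhd.1 W.isBasis_affineOpens hx
  refine ⟨⟨B, hB⟩, hxB, hle, ?_⟩
  exact hψ ⟨j ''ᵁ B, hB.image_of_isOpenImmersion j⟩ (hu _ (j.image_le_opensRange B))

/-- Tensor powers of a map that is an isomorphism after pullback. -/
theorem exists_powMap {V W : Scheme.{u}} (j : W ⟶ V) {L L' : V.Modules} (ψ : L ⟶ L')
    [IsIso ((Scheme.Modules.pullback j).map ψ)] :
    ∀ m : ℕ, ∃ φ : CohB1.tensorPow L m ⟶ CohB1.tensorPow L' m, IsIso ((Scheme.Modules.pullback j).map φ)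
  | 0 => ⟨(Iso.refl (Coh.structureModule V)).hom, Functor.map_isIso _ _⟩
  | m + 1 => by
    obtain ⟨φ, hφ⟩ := exists_powMap j ψ m
    let a : CohB1.tensorPow L (m + 1) ⟶ CohB1.tensorMod (CohB1.tensorPow L' m) L :=
      ((DCoh.tensorBi (X := V)).map φ).app L
    let b : CohB1.tensorMod (CohB1.tensorPow L' m) L ⟶ CohB1.tensorPow L' (m + 1) :=
      ((DCoh.tensorBi (X := V)).obj (CohB1.tensorPow L' m)).map ψ
    refine ⟨a ≫ b, ?_⟩
    haveI : IsIso ((Scheme.Modules.pullback j).map a) := by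
      have h := DCat.PullTensor.pullTensorHom_nat₁ j φ L
      rw [show (Scheme.Modules.pullback j).map a = (DCat.PullTensor.pullTensorIso j _ L).hom ≫
          ((DCoh.tensorBi (X := W)).map ((Scheme.Modules.pullback j).map φ)).app _ ≫
            (DCat.PullTensor.pullTensorIso j _ L).inv from
        (Iso.eq_comp_inv _).2 (by exact h) |>.trans (Category.assoc _ _ _)]
      exact IsIso.comp_isIso' inferInstance (IsIso.comp_isIso'
        (((DCoh.tensorBi (X := W)).mapIso (asIso ((Scheme.Modules.pullback j).map φ))).app _).isIso_hom inferInstance)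
    haveI : IsIso ((Scheme.Modules.pullback j).map b) := by
      have h := DCat.PullTensor.pullTensorHom_nat₂ j (CohB1.tensorPow L' m) ψ
      rw [show (Scheme.Modules.pullback j).map b = (DCat.PullTensor.pullTensorIso j _ L).hom ≫
          ((DCoh.tensorBi (X := W)).obj _).map ((Scheme.Modules.pullback j).map ψ) ≫
            (DCat.PullTensor.pullTensorIso j _ L').inv from
        (Iso.eq_comp_inv _).2 (by exact h) |>.trans (Category.assoc _ _ _)]
      exact IsIso.comp_isIso' inferInstance (IsIso.comp_isIso'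
        (((DCoh.tensorBi (X := W)).obj _).mapIso (asIso ((Scheme.Modules.pullback j).map ψ))).isIso_hom inferInstance)
    rw [Functor.map_comp]
    infer_instance

theorem exists_extension {k : Type u} [Field k] (X X' : Scheme.{u}) (p : X ⟶ Spec (CommRingCat.of k))
    [Smooth p] (p' : X' ⟶ Spec (CommRingCat.of k)) [IsProper p'] [AlgebraicGeometry.IsIntegral X]
    (U : X.Opens) (hU : (U : Set X).Nonempty) (g : U.toScheme ⟶ X') [IsOpenImmersion g] (hg : g ≫ p' = U.ι ≫ p) :
    ∃ (V : X.Opens) (hle : U ≤ V) (f : V.toScheme ⟶ X'),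
      (∀ x : X, x ∉ V → (2 : WithBot ℕ∞) ≤ ringKrullDim (X.presheaf.stalk x)) ∧
      f ≫ p' = V.ι ≫ p ∧ IsOpenImmersion (X.homOfLE hle ≫ f) := by
  haveI : IsRegularRing k := inferInstance
  obtain ⟨V, hle, hV, f, hf, hfU⟩ := NeronLib.exists_extension_codim_one (NeronLib.smoothRegular_spec k) p p' U
    (U.2.dense hU) g hg
  exact ⟨V, hle, f, fun x hx => NeronLib.two_le_of_not_le_one fun h => hx (hV x h), hf, hfU ▸ inferInstance⟩

theorem isFinLocFree_tensorPow {E : X.Modules} (hE : FlatMod.IsFinLocFree E) :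
    ∀ m : ℕ, FlatMod.IsFinLocFree (CohB1.tensorPow E m)
  | 0 => Coherent.CohBC.isFinLocFree_structureModule X
  | m + 1 => ExtFilt28.isFinLocFree_tensor (isFinLocFree_tensorPow hE m) hE

section Final

variable (k : Type u) [Field k] [IsAlgClosed k] (X X' : Scheme.{u}) [X.Over (Spec (CommRingCat.of k))]
  [X'.Over (Spec (CommRingCat.of k))] [AlgebraicGeometry.IsIntegral X] [AlgebraicGeometry.IsIntegral X']
  [IsProper (X ↘ Spec (CommRingCat.of k))] [IsProper (X' ↘ Spec (CommRingCat.of k))]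

theorem finrank_le_of_birational
    (hreg : ∀ x : X, IsRegularLocalRing (X.presheaf.stalk x))
    (hreg' : ∀ x : X', IsRegularLocalRing (X'.presheaf.stalk x))
    (U : X.Opens) (hU : (U : Set X).Nonempty) (g : U.toScheme ⟶ X') [IsOpenImmersion g]
    (hg : g ≫ (X' ↘ Spec (CommRingCat.of k)) = U.ι ≫ (X ↘ Spec (CommRingCat.of k)))
    (q m : ℕ) (L : X.Modules) (hL : ExtPow.IsExtPow q (Omega.sheaf (X ↘ Spec (CommRingCat.of k))) L)
    (L' : X'.Modules) (hL' : ExtPow.IsExtPow q (Omega.sheaf (X' ↘ Spec (CommRingCat.of k))) L') :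
    Module.finrank k (Coh.HH X' L' 0) ≤ Module.finrank k (Coh.HH X L 0) ∧
      Module.finrank k (Coh.HH X' (CohB1.tensorPow L' m) 0) ≤ Module.finrank k (Coh.HH X (CohB1.tensorPow L m) 0) := by
  haveI := smooth_of_regular (X ↘ Spec (CommRingCat.of k)) hreg
  haveI := smooth_of_regular (X' ↘ Spec (CommRingCat.of k)) hreg'
  haveI : IsLocallyNoetherian X := LocallyOfFiniteType.isLocallyNoetherian (X ↘ Spec (CommRingCat.of k))
  obtain ⟨V, hle, f, hV, hf, hj⟩ := exists_extension X X' (X ↘ Spec (CommRingCat.of k))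
    (X' ↘ Spec (CommRingCat.of k)) U hU g hg
  haveI : Nonempty U.toScheme := ⟨⟨hU.some, hU.some_mem⟩⟩
  obtain ⟨u, hu⟩ := exists_omegaMap X X' (X ↘ Spec (CommRingCat.of k)) (X' ↘ Spec (CommRingCat.of k)) V f hf
    (X.homOfLE hle)
  have hΩ := isFinLocFree_omega (X ↘ Spec (CommRingCat.of k))
  have hΩ' := isFinLocFree_omega (X' ↘ Spec (CommRingCat.of k))
  obtain ⟨ψ, hψ⟩ := exists_wedgeMap q (X.homOfLE hle) (ExtPowEx28.isExtPow_pullback_vb f hΩ' hL')
    (ExtPowEx28.isExtPow_pullback_vb V.ι hΩ hL) u hu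
  have hLF := isFinLocFree_of_isExtPow hΩ hL
  have hLF' := isFinLocFree_of_isExtPow hΩ' hL'
  refine ⟨finrank_le k X X' hreg V hV f hf (X.homOfLE hle) L hLF L' hLF' ψ, ?_⟩
  obtain ⟨φ, hφ⟩ := exists_powMap (X.homOfLE hle) ψ m
  obtain ⟨a⟩ := Clifford24.nonempty_pullback_tensorPow f L' m
  obtain ⟨b⟩ := Clifford24.nonempty_pullback_tensorPow V.ι L m
  haveI : IsIso ((Scheme.Modules.pullback (X.homOfLE hle)).map (a.hom ≫ φ ≫ b.inv)) := by
    rw [Functor.map_comp, Functor.map_comp]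
    infer_instance
  exact finrank_le k X X' hreg V hV f hf (X.homOfLE hle) _ (isFinLocFree_tensorPow hLF m) _
    (isFinLocFree_tensorPow hLF' m) (a.hom ≫ φ ≫ b.inv)

theorem finrank_eq_of_birational
    (hreg : ∀ x : X, IsRegularLocalRing (X.presheaf.stalk x))
    (hreg' : ∀ x : X', IsRegularLocalRing (X'.presheaf.stalk x))
    (U : X.Opens) (U' : X'.Opens) (hU : (U : Set X).Nonempty) (e : (U : Scheme.{u}) ≅ (U' : Scheme.{u}))
    (he : e.hom ≫ U'.ι ≫ (X' ↘ Spec (CommRingCat.of k)) = U.ι ≫ (X ↘ Spec (CommRingCat.of k)))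
    (q m : ℕ) (L : X.Modules) (hL : ExtPow.IsExtPow q (Omega.sheaf (X ↘ Spec (CommRingCat.of k))) L)
    (L' : X'.Modules) (hL' : ExtPow.IsExtPow q (Omega.sheaf (X' ↘ Spec (CommRingCat.of k))) L') :
    Module.finrank k (Coh.HH X L 0) = Module.finrank k (Coh.HH X' L' 0) ∧
      Module.finrank k (Coh.HH X (CohB1.tensorPow L m) 0) = Module.finrank k (Coh.HH X' (CohB1.tensorPow L' m) 0) := by
  have hU' : (U' : Set X').Nonempty := ⟨_, (e.hom ⟨hU.some, hU.some_mem⟩).2⟩
  have h1 := finrank_le_of_birational k X X' hreg hreg' U hU (e.hom ≫ U'.ι)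
    (by rw [Category.assoc]; exact he) q m L hL L' hL'
  have h2 := finrank_le_of_birational k X' X hreg' hreg U' hU' (e.inv ≫ U.ι)
    (by rw [Category.assoc, ← he, Iso.inv_hom_id_assoc]) q m L' hL' L hL
  exact ⟨le_antisymm h2.1 h1.1, le_antisymm h2.2 h1.2⟩

end Final

end Groth.Agent.Birat27
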