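import Groth.Agent.Birat27.Basic
import Groth.Agent.GenSmoothLib.OmegaFree
import Groth.Agent.GenSmoothLib.SmoothDim
import Groth.Agent.S5020
import Groth.Agent.Omega15.ConormalPi
import Groth.Agent.SmoothImmH2.Regular
import Groth.Agent.FundLocal.SmoothImm
import Groth.Agent.NeronLib.Regular
import Groth.Agent.VarietyLib.SmoothStalk
import Groth.Agent.Props12.FinLocFree
import Groth.Agent.TFPush7.StalkSub

/-!
# Regular closed subschemes: locally free differentials and injective conormal map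
-/

set_option autoImplicit false
set_option backward.isDefEq.respectTransparency.types false
set_option backward.isDefEq.respectTransparency false
set_option linter.style.haveILetI false
set_option maxHeartbeats 800000

universe u

open CategoryTheory CategoryTheory.Limits AlgebraicGeometry TopologicalSpace Opposite
open scoped TensorProduct

noncomputable section

namespace Groth.Agent.Birat27

open OmegaLib

theorem mem_smoothLocus_sub {X Y : Scheme.{u}} (i : Y ⟶ X) [IsClosedImmersion i] {S : Scheme.{u}} (p : X ⟶ S)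
    (hp : MoreMor.IsFormallySmoothHom p) [LocallyOfFinitePresentation (i ≫ p)]
    {ΩX : X.Modules} {dX : OmegaSh.Der p ΩX} (hX : OmegaSh.IsUniversal dX)
    {ΩY : Y.Modules} {dY : OmegaSh.Der (i ≫ p) ΩY} (hY : OmegaSh.IsUniversal dY) (hfree : FlatMod.IsFinLocFree ΩY)
    (φ : Omega.conormal i ⟶ (Scheme.Modules.pullback i).obj ΩX) (hφ : OmegaSh.IsConormalDiff i dX φ) [Mono φ]
    (y : Y) : y ∈ (i ≫ p).smoothLocus := by
  obtain ⟨T, hT, hxT, -⟩ := Opens.isBasis_iff_nbhd.mp S.isBasis_affineOpens (Opens.mem_top (p (i y)))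
  have hxT' : (i ≫ p) y ∈ T := hxT
  letI : Algebra Γ(S, T) (X.presheaf.stalk (i y)) :=
    (S.presheaf.germ T (p (i y)) hxT ≫ p.stalkMap (i y)).hom.toAlgebra
  letI : Algebra Γ(S, T) (Y.presheaf.stalk y) :=
    ((S.presheaf.germ T (p (i y)) hxT ≫ p.stalkMap (i y)) ≫ i.stalkMap y).hom.toAlgebra
  letI : Algebra (X.presheaf.stalk (i y)) (Y.presheaf.stalk y) := (i.stalkMap y).hom.toAlgebra
  haveI : IsScalarTower Γ(S, T) (X.presheaf.stalk (i y)) (Y.presheaf.stalk y) :=
    IsScalarTower.of_algebraMap_eq fun _ => rfl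
  have hsurj : Function.Surjective (algebraMap (X.presheaf.stalk (i y)) (Y.presheaf.stalk y)) :=
    i.stalkMap_surjective y
  haveI : Algebra.FormallySmooth Γ(S, T) (X.presheaf.stalk (i y)) := by
    letI : Algebra (S.presheaf.stalk (p (i y))) (X.presheaf.stalk (i y)) := (p.stalkMap (i y)).hom.toAlgebra
    haveI : Algebra.FormallySmooth (S.presheaf.stalk (p (i y))) (X.presheaf.stalk (i y)) :=
      formallySmooth_stalkMap hp (i y)
    letI : Algebra Γ(S, T) (S.presheaf.stalk (p (i y))) := (S.presheaf.germ T (p (i y)) hxT).hom.toAlgebra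
    haveI := hT.isLocalization_stalk ⟨p (i y), hxT⟩
    haveI : Algebra.FormallyEtale Γ(S, T) (S.presheaf.stalk (p (i y))) :=
      .of_isLocalization (hT.primeIdealOf ⟨p (i y), hxT⟩).asIdeal.primeCompl
    haveI : IsScalarTower Γ(S, T) (S.presheaf.stalk (p (i y))) (X.presheaf.stalk (i y)) :=
      IsScalarTower.of_algebraMap_eq fun _ => rfl
    exact .comp _ (S.presheaf.stalk (p (i y))) _
  obtain ⟨EY, -⟩ := exists_stalk_equiv hY hT y hxT' (fun r => by
    rw [Scheme.Hom.stalkMap_comp]; rfl)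
  haveI : Coh.IsQCoh ΩY := CAlgH3.LocFreeFactor.isQCoh_of_finLocFree hfree
  haveI : Module.Projective (Y.presheaf.stalk y) Ω[Y.presheaf.stalk y⁄Γ(S, T)] := by
    haveI : Module.Free (Y.presheaf.stalk y) ((DerSch.stalkFunctor Y y).obj ΩY) :=
      Props12.free_stalk_of_isFinLocFree ΩY hfree y
    haveI := Module.Free.of_equiv EY.symm
    infer_instance
  obtain ⟨EX, hEX⟩ := exists_stalk_equiv hX hT (i y) hxT fun _ => rfl
  obtain ⟨EP, hEP⟩ := exists_pullback_stalk_equiv i ΩX y
  obtain ⟨π, hπ⟩ := Omega15.exists_pi i y (y := i y) rfl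
  have hφy : Function.Injective ((DerSch.stalkFunctor Y y).map φ) :=
    (ModuleCat.mono_iff_injective ((DerSch.stalkFunctor Y y).map φ)).1 inferInstance
  have hinj : Function.Injective (KaehlerDifferential.kerCotangentToTensor Γ(S, T) (X.presheaf.stalk (i y))
      (Y.presheaf.stalk y)) := by
    rw [injective_iff_map_eq_zero]
    intro ξ hξ
    obtain ⟨⟨a, ha⟩, rfl⟩ := Ideal.toCotangent_surjective _ ξ
    rw [KaehlerDifferential.kerCotangentToTensor_toCotangent] at hξ
    have ha' : a ∈ RingHom.ker (Thick15.tm i (x := y) rfl).hom := by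
      rw [Thick15.tm_self]; exact ha
    have h := Omega15.pi_conormalDiff hφ y rfl hπ (δ := fun a => EX (KaehlerDifferential.D Γ(S, T) _ a))
      (P := fun m => EP ((1 : Y.presheaf.stalk y) ⊗ₜ m)) (fun U hU s => hEX U hU s)
      (fun U hU s => hEP U hU s) ⟨a, ha'⟩
    have h0 : (1 : Y.presheaf.stalk y) ⊗ₜ[X.presheaf.stalk (i y)] EX (KaehlerDifferential.D Γ(S, T) _ a) = 0 := by
      have := congrArg (LinearMap.lTensor (Y.presheaf.stalk y) EX.toLinearMap) hξ
      rw [LinearMap.lTensor_tmul, map_zero] at this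
      exact this
    have h1 : (DerSch.stalkFunctor Y y).map φ (π ⟨a, ha'⟩) = 0 := by
      rw [h, h0, map_zero]
    have h2 := (hπ.2.1 ⟨a, ha'⟩).1 (hφy (h1.trans (map_zero _).symm))
    rw [Ideal.toCotangent_eq_zero]
    have h3 : RingHom.ker (Thick15.tm i (x := y) rfl).hom =
        RingHom.ker (algebraMap (X.presheaf.stalk (i y)) (Y.presheaf.stalk y)) := by
      rw [Thick15.tm_self]; rfl
    show a ∈ _
    exact h3 ▸ (show a ∈ RingHom.ker (Thick15.tm i (x := y) rfl).hom ^ 2 from h2)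
  haveI : Algebra.FormallySmooth Γ(S, T) (Y.presheaf.stalk y) :=
    ⟨inferInstance, (Algebra.FormallySmooth.kerCotangentToTensor_injective_iff hsurj).1 hinj⟩
  rw [Scheme.Hom.mem_smoothLocus]
  letI : Algebra (S.presheaf.stalk ((i ≫ p) y)) (Y.presheaf.stalk y) := ((i ≫ p).stalkMap y).hom.toAlgebra
  letI : Algebra Γ(S, T) (S.presheaf.stalk ((i ≫ p) y)) := (S.presheaf.germ T ((i ≫ p) y) hxT').hom.toAlgebra
  haveI := hT.isLocalization_stalk ⟨(i ≫ p) y, hxT'⟩
  haveI : IsScalarTower Γ(S, T) (S.presheaf.stalk ((i ≫ p) y)) (Y.presheaf.stalk y) :=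
    IsScalarTower.of_algebraMap_eq fun r => by
      change i.stalkMap y (p.stalkMap (i y) (S.presheaf.germ T (p (i y)) hxT r)) =
        (i ≫ p).stalkMap y (S.presheaf.germ T (p (i y)) hxT r)
      rw [Scheme.Hom.stalkMap_comp]
      rfl
  exact Algebra.FormallySmooth.localization_base (R := Γ(S, T))
    (hT.primeIdealOf ⟨(i ≫ p) y, hxT'⟩).asIdeal.primeCompl

theorem regular_iff (k : Type u) [Field k] [IsAlgClosed k] (n q : ℕ)
    (X : Scheme.{u}) (p : X ⟶ Spec (CommRingCat.of k)) [AlgebraicGeometry.IsIntegral X] [IsSeparated p]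
    [LocallyOfFiniteType p] (hreg : ∀ x : X, IsRegularLocalRing (X.presheaf.stalk x))
    (hn : topologicalKrullDim X = (n : WithBot ℕ∞))
    (Y : Scheme.{u}) (i : Y ⟶ X) [IsClosedImmersion i] [IrreducibleSpace Y]
    (hq : topologicalKrullDim Y = (q : WithBot ℕ∞))
    (ΩX : X.Modules) (dX : OmegaSh.Der p ΩX) (hX : OmegaSh.IsUniversal dX)
    (ΩY : Y.Modules) (dY : OmegaSh.Der (i ≫ p) ΩY) (hY : OmegaSh.IsUniversal dY)
    (φ : Omega.conormal i ⟶ (Scheme.Modules.pullback i).obj ΩX) (hφ : OmegaSh.IsConormalDiff i dX φ) :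
    ((∀ y : Y, IsRegularLocalRing (Y.presheaf.stalk y)) ↔ (FlatMod.IsFinLocFree ΩY ∧ Mono φ)) ∧
      ((∀ y : Y, IsRegularLocalRing (Y.presheaf.stalk y)) →
        FlatMod.IsFinLocFreeOfRank (n - q) (Omega.conormal i)) := by
  haveI := smooth_of_regular p hreg
  haveI : LocallyOfFinitePresentation (i ≫ p) := by
    haveI : IsLocallyNoetherian (Spec (CommRingCat.of k)) := inferInstance
    haveI : LocallyOfFiniteType (i ≫ p) := inferInstance
    infer_instance
  have hsm : (∀ y : Y, IsRegularLocalRing (Y.presheaf.stalk y)) → Smooth (i ≫ p) ∧ AlgebraicGeometry.IsIntegral Y := by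
    intro h
    haveI := NeronLib.isReduced_of_regular h
    haveI : AlgebraicGeometry.IsIntegral Y := isIntegral_of_irreducibleSpace_of_isReduced Y
    exact ⟨smooth_of_regular (i ≫ p) h, inferInstance⟩
  refine ⟨⟨fun h => ?_, ?_⟩, fun h => ?_⟩
  · obtain ⟨_, _⟩ := hsm h
    exact ⟨OmegaLib.isFinLocFree_of_isFormallySmoothHom hY (Omega15.isFormallySmoothHom_of_smooth _),
      S5020.result i p (Omega15.isFormallySmoothHom_of_smooth _) ΩX dX hX φ hφ⟩
  · rintro ⟨hfree, hmono⟩ y
    haveI : Smooth (i ≫ p) := by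
      rw [← Scheme.Hom.smoothLocus_eq_top_iff]
      ext z
      simp only [TopologicalSpace.Opens.coe_top, Set.mem_univ, iff_true, SetLike.mem_coe]
      exact mem_smoothLocus_sub i p (Omega15.isFormallySmoothHom_of_smooth p) hX hY hfree φ hφ z
    exact VarietyLib.isRegularLocalRing_stalk_of_smooth k Y (i ≫ p) y
  · obtain ⟨_, _⟩ := hsm h
    haveI := GenSmoothLib.smoothOfRelativeDimension_toField p hn
    haveI := GenSmoothLib.smoothOfRelativeDimension_toField (i ≫ p) hq
    exact FundLocal.isFinLocFreeOfRank_conormal i (SmoothImmH2.regular_of_smooth i p (i ≫ p) rfl n q).1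

end Groth.Agent.Birat27
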